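import Groth.Agent.S8492
import Groth.Agent.AGF.K798.LinRedConv
import Groth.Agent.HopfRep.K191.BaseInt
import Groth.Agent.Agf.H612.GalMain
import Groth.Agent.Sga3B.RedBcAny636
import Groth.Agent.Sga3B.BcSpec892
import Groth.Agent.Sga3B.BcIso
import Groth.Agent.Sga3B.AlgBc
import Groth.Agent.Sga3B.Hens.Dict
import Groth.Agent.Fga.HenselDVR

/-!
# Groups over a complete local algebra with linearly reductive closed fibre are constant
-/

set_option autoImplicit false
universe u
open CategoryTheory MonoidalCategory CartesianMonoidalCategory MonObj GrpObj AlgebraicGeometry Limits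
open TensorProduct
open Groth.Agent.Books.AffBridge Groth.Agent.Sga3B.BcIso

namespace K148.ConstFib

/-- Over a henselian local base, a smooth affine group with connected fibres is constant along a
retraction of the base onto its closed point as soon as the closed fibre is reductive. -/
theorem exists_iso_bc (A : Type u) [CommRing A] [HenselianLocalRing A] {S : Scheme.{u}}
    (i : S ⟶ Spec (CommRingCat.of A)) (p : Spec (CommRingCat.of A) ⟶ S)
    (hr : Spec.map (CommRingCat.ofHom (IsLocalRing.residue A)) ≫ p ≫ i =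
      Spec.map (CommRingCat.ofHom (IsLocalRing.residue A)))
    (G' : Over (Spec (CommRingCat.of A))) [GrpObj G'] [IsAffineHom G'.hom] [Smooth G'.hom]
    (hconn : ∀ s : Spec (CommRingCat.of A), _root_.IsConnected (G'.hom.base ⁻¹' {s}))
    (hred : Red.IsReductive (Red.bc i G')) :
    Nonempty (Grp.mk (Red.bc p (Red.bc i G')) ≅ Grp.mk G') := by
  let r := Spec.map (CommRingCat.ofHom (IsLocalRing.residue A))
  have e₀ : Grp.mk (Red.bc r (Red.bc p (Red.bc i G'))) ≅ Grp.mk (Red.bc r G') :=
    (bcCompIso r p (Red.bc i G')).symm ≪≫ (bcCompIso (r ≫ p) i G').symm ≪≫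
      bcCongrIso ((Category.assoc _ _ _).trans hr) G'
  obtain ⟨e, -⟩ := Groth.Agent.S8492.result A (Red.bc p (Red.bc i G')) G'
    (Groth.Agent.Sga3B.RedBcAny636.isReductive_bc p hred) hconn e₀
  exact ⟨e⟩

/-- The fibres of a ring map with connected geometric fibres are connected. -/
theorem isConnected_fibre (A B : Type u) [CommRing A] [CommRing B] [Algebra A B]
    (hconn : ∀ (Ω : Type u) [Field Ω] [IsAlgClosed Ω] [Algebra A Ω],
      ConnectedSpace (PrimeSpectrum (Ω ⊗[A] B))) (s : Spec (CommRingCat.of A)) :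
    _root_.IsConnected ((Spec.map (CommRingCat.ofHom (algebraMap A B))).base ⁻¹' {s}) := by
  let K := (Spec (CommRingCat.of A)).residueField s
  let Ω := AlgebraicClosure K
  obtain ⟨φ, hφ⟩ := Spec.map_surjective
    (Spec.map (CommRingCat.ofHom (algebraMap K Ω)) ≫ (Spec (CommRingCat.of A)).fromSpecResidueField s)
  let _ : Algebra A Ω := φ.hom.toAlgebra
  have h1 : ConnectedSpace (PrimeSpectrum (Ω ⊗[A] B)) := hconn Ω
  have h2 : ConnectedSpace ↥(pullback (Spec.map (CommRingCat.ofHom (algebraMap A Ω)))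
      (Spec.map (CommRingCat.ofHom (algebraMap A B)))) := by
    have h3 : ConnectedSpace (Spec (CommRingCat.of (Ω ⊗[A] B))) := h1
    let ε := Scheme.homeoOfIso (pullbackSpecIso A Ω B)
    exact ε.symm.surjective.connectedSpace ε.symm.continuous
  have h4 := isConnected_range (f := (pullback.snd (Spec.map (CommRingCat.ofHom (algebraMap A Ω)))
      (Spec.map (CommRingCat.ofHom (algebraMap A B)))).base) (Scheme.Hom.continuous _)
  have h5 : Set.range (pullback.snd (Spec.map (CommRingCat.ofHom (algebraMap A Ω)))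
      (Spec.map (CommRingCat.ofHom (algebraMap A B)))).base =
      (Spec.map (CommRingCat.ofHom (algebraMap A B))).base ⁻¹' {s} := by
    have h6 := Scheme.Pullback.range_snd (Spec.map (CommRingCat.ofHom (algebraMap A Ω)))
      (Spec.map (CommRingCat.ofHom (algebraMap A B)))
    have h7 : Set.range (Spec.map (CommRingCat.ofHom (algebraMap A Ω))) = {s} := by
      have h8 : Spec.map (CommRingCat.ofHom (algebraMap A Ω)) =
        Spec.map (CommRingCat.ofHom (algebraMap K Ω)) ≫
          (Spec (CommRingCat.of A)).fromSpecResidueField s := hφ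
      rw [h8]
      ext y
      simp only [Set.mem_range, Scheme.Hom.comp_apply, Set.mem_singleton_iff]
      constructor
      · rintro ⟨z, rfl⟩
        exact Scheme.fromSpecResidueField_apply _ _
      · rintro rfl
        exact ⟨IsLocalRing.closedPoint Ω, Scheme.fromSpecResidueField_apply _ _⟩
    rw [h7] at h6
    exact h6
  rw [h5] at h4
  exact h4

/-- The closed fibre is reductive. -/
theorem isReductive_closed (L A B : Type u) [Field L] [CommRing A] [Algebra A L] [CommRing B]
    [HopfAlgebra A B] [Algebra.Smooth A B]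
    (hconn : ∀ (Ω : Type u) [Field Ω] [IsAlgClosed Ω] [Algebra A Ω],
      ConnectedSpace (PrimeSpectrum (Ω ⊗[A] B)))
    (hlr : HopfRep.IsLinearlyReductive L (L ⊗[A] B)) :
    Red.IsReductive (SpecOver L (L ⊗[A] B)) := by
  refine Groth.Agent.Agf.H612.GalMain.isReductive_specOver
    ((Groth.Agent.Books.AffBridge2.smooth_specOver_iff L _).2 inferInstance) fun s => ?_
  let Ω := Groth.Agent.Agf.H612.GalMain.Om L s
  let _ : Algebra A Ω := ((algebraMap L Ω).comp (algebraMap A L)).toAlgebra
  have : IsScalarTower A L Ω := IsScalarTower.of_algebraMap_eq fun _ => rfl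
  have h1 : ConnectedSpace (PrimeSpectrum (Ω ⊗[A] B)) := hconn Ω
  let e : Ω ⊗[L] (L ⊗[A] B) ≃ₐ[Ω] Ω ⊗[A] B := Algebra.TensorProduct.cancelBaseChange A L Ω Ω B
  have h2 : ConnectedSpace (PrimeSpectrum (Ω ⊗[L] (L ⊗[A] B))) := by
    let ε := PrimeSpectrum.homeomorphOfRingEquiv e.toRingEquiv
    exact ε.symm.surjective.connectedSpace ε.symm.continuous
  have hd : IsDomain (Ω ⊗[L] (L ⊗[A] B)) :=
    (Groth.Agent.Sga3B.RG.BrPts.isDomain_iff (K := Ω) (Ω ⊗[L] (L ⊗[A] B))).1
      ⟨(Groth.Agent.Books.AffBridge2.smooth_specOver_iff Ω _).2 inferInstance, h2⟩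
  exact ⟨hd, K798.LinRedConv.isRedPt
    ((K191.BaseInt.isLinearlyReductive_iff_baseChange (k := L) (A := L ⊗[A] B) (K := Ω)).1 hlr)⟩

/-- **Constancy over a complete local base** of smooth affine groups with connected geometric
fibres and linearly reductive closed fibre. -/
theorem main (L : Type u) [Field L] (A : Type u) [CommRing A] [HenselianLocalRing A] [Algebra L A] [Algebra A L]
    (hsec : (algebraMap A L).comp (algebraMap L A) = RingHom.id L)
    (B : Type u) [CommRing B] [HopfAlgebra A B] [Algebra.Smooth A B]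
    (hconn : ∀ (Ω : Type u) [Field Ω] [IsAlgClosed Ω] [Algebra A Ω],
      ConnectedSpace (PrimeSpectrum (Ω ⊗[A] B)))
    (hlr : HopfRep.IsLinearlyReductive L (L ⊗[A] B)) :
    Nonempty (B ≃ₐc[A] (A ⊗[L] (L ⊗[A] B))) := by
  obtain ⟨e₁, he₁⟩ := Groth.Agent.Sga3B.BcSpec892.exists_iso A L B
  obtain ⟨e₂, he₂⟩ := Groth.Agent.Sga3B.BcSpec892.exists_iso L A (L ⊗[A] B)
  let i := Spec.map (CommRingCat.ofHom (algebraMap A L))
  let p := Spec.map (CommRingCat.ofHom (algebraMap L A))
  have hG' : Smooth (SpecOver A B).hom :=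
    (Groth.Agent.Books.AffBridge2.smooth_specOver_iff A B).2 inferInstance
  have hsurj : Function.Surjective (algebraMap A L) := fun x =>
    ⟨algebraMap L A x, DFunLike.congr_fun hsec x⟩
  have hr : Spec.map (CommRingCat.ofHom (IsLocalRing.residue A)) ≫ p ≫ i =
      Spec.map (CommRingCat.ofHom (IsLocalRing.residue A)) := by
    rw [← Spec.map_comp, ← Spec.map_comp, ← CommRingCat.ofHom_comp, ← CommRingCat.ofHom_comp]
    congr 2
    ext a
    have h1 : a - algebraMap L A (algebraMap A L a) ∈ RingHom.ker (algebraMap A L) := by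
      rw [RingHom.mem_ker, map_sub, sub_eq_zero]
      exact (DFunLike.congr_fun hsec (algebraMap A L a)).symm
    have h2 : a - algebraMap L A (algebraMap A L a) ∈ IsLocalRing.maximalIdeal A :=
      (IsLocalRing.le_maximalIdeal (RingHom.ker_ne_top _)) h1
    rw [← Ideal.Quotient.eq_zero_iff_mem, map_sub, sub_eq_zero] at h2
    exact h2.symm
  let e₁' : Grp.mk (Red.bc i (SpecOver A B)) ≅ Grp.mk (SpecOver L (L ⊗[A] B)) := Grp.mkIso' e₁
  have hred : Red.IsReductive (Red.bc i (SpecOver A B)) :=
    Groth.Agent.Sga3B.AlgBc.isReductive_of_iso e₁'.symm (isReductive_closed L A B hconn hlr)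
  obtain ⟨e⟩ := exists_iso_bc A i p hr (SpecOver A B) (isConnected_fibre A B hconn) hred
  let e₂' : Grp.mk (Red.bc p (SpecOver L (L ⊗[A] B))) ≅
    Grp.mk (SpecOver A (A ⊗[L] (L ⊗[A] B))) := Grp.mkIso' e₂
  exact (Groth.Agent.Sga3B.Hens.Dict.nonempty_bialgEquiv A B (A ⊗[L] (L ⊗[A] B))).1
    ⟨e.symm ≪≫ bcMapIso p e₁' ≪≫ e₂'⟩

end K148.ConstFib
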